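import Groth.Agent.H02CA.Node.Approx
import Mathlib.Tactic.LinearCombination

/-!
# Node coordinates which are eigenvectors of an involution
-/

set_option autoImplicit false
set_option linter.unusedSectionVars false
set_option linter.style.haveILetI false

universe u

open IsLocalRing

namespace Groth.Agent.H06Node

open H02CA.Node

variable {R S : Type u} [CommRing R] [IsLocalRing R] [IsNoetherianRing R] [CommRing S] [IsLocalRing S]
  [IsNoetherianRing S] [Algebra R S]

local notation "mS" => Ideal.map (algebraMap R S) (maximalIdeal R)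

lemma map_mem_pow (σ : S ≃ₐ[R] S) {n : ℕ} {z : S} (hz : z ∈ mS ^ n) : σ z ∈ mS ^ n := by
  rw [← Ideal.map_pow] at hz ⊢
  have h := Ideal.mem_map_of_mem σ.toAlgHom.toRingHom hz
  rwa [Ideal.map_map, show σ.toAlgHom.toRingHom.comp (algebraMap R S) = algebraMap R S from
    RingHom.ext σ.commutes] at h

lemma map_mem_maximalIdeal (σ : S ≃ₐ[R] S) {z : S} (hz : z ∈ maximalIdeal S) : σ z ∈ maximalIdeal S := by
  intro h
  refine hz ?_
  have := h.map σ.symm
  rwa [AlgEquiv.symm_apply_apply] at this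

lemma map_mem_maximalIdeal_pow (σ : S ≃ₐ[R] S) {n : ℕ} {z : S} (hz : z ∈ maximalIdeal S ^ n) :
    σ z ∈ maximalIdeal S ^ n := by
  have h1 : (maximalIdeal S).map σ.toAlgHom.toRingHom ≤ maximalIdeal S :=
    Ideal.map_le_iff_le_comap.2 fun w hw => map_mem_maximalIdeal σ hw
  exact Ideal.pow_right_mono h1 n (Ideal.map_pow σ.toAlgHom.toRingHom _ n ▸ Ideal.mem_map_of_mem _ hz)

variable (hres : ∀ s : S, ∃ r : R, algebraMap R S r - s ∈ maximalIdeal S)
  (u v : S) (hgen : maximalIdeal S = Ideal.span {u, v} ⊔ (maximalIdeal R).map (algebraMap R S))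
  (σ : S ≃ₐ[R] S) (hσ : ∀ s, σ (σ s) = s) (a b h : R) (ha : a * a = 1) (hb : b * b = 1) (hh : h * 2 = 1)

/-- The symmetric stages. -/
def IsEigenStage {k : ℕ} (s : Stage (R := R) u v k) : Prop :=
  σ s.x = algebraMap R S a * s.x ∧ σ s.y = algebraMap R S b * s.y ∧ (a * b - 1) * s.α = 0

include hres hgen hσ ha hb hh in
theorem eigen_step (hσu : σ u = algebraMap R S a * u) (hσv : σ v = algebraMap R S b * v)
    (k : ℕ) (s : Stage (R := R) u v k) (hs : IsEigenStage u v σ a b s) :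
    ∃ t : Stage (R := R) u v (k + 1), IsEigenStage u v σ a b t ∧
      t.x - s.x ∈ mS ^ (k + 1) ∧ t.y - s.y ∈ mS ^ (k + 1) ∧ t.α - s.α ∈ maximalIdeal R ^ (k + 1) := by
  obtain ⟨r, p, q, hr, hp, hq, hD⟩ := decomp_pow hres u v hgen (k + 1) s.hp
  obtain ⟨hsx, hsy, hsα⟩ := hs
  obtain ⟨A, hA⟩ : ∃ A, A = algebraMap R S a := ⟨_, rfl⟩
  obtain ⟨B, hB⟩ : ∃ B, B = algebraMap R S b := ⟨_, rfl⟩
  obtain ⟨H, hH⟩ : ∃ H, H = algebraMap R S h := ⟨_, rfl⟩
  have hσA : σ A = A := by rw [hA, σ.commutes]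
  have hσB : σ B = B := by rw [hB, σ.commutes]
  have hσH : σ H = H := by rw [hH, σ.commutes]
  have hAA : A * A = 1 := by rw [hA, ← map_mul, ha, map_one]
  have hBB : B * B = 1 := by rw [hB, ← map_mul, hb, map_one]
  have hHH : H * 2 = 1 := by rw [hH, ← map_ofNat (algebraMap R S) 2, ← map_mul, hh, map_one]
  rw [← hA] at hsx hσu
  rw [← hB] at hsy hσv
  have hαS : A * B * algebraMap R S s.α = algebraMap R S s.α := by
    rw [hA, hB, ← map_mul, ← map_mul]
    congr 1
    linear_combination hsα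
  obtain ⟨p', hp'⟩ : ∃ p', p' = H * (p + B * σ p) := ⟨_, rfl⟩
  obtain ⟨q', hq'⟩ : ∃ q', q' = H * (q + A * σ q) := ⟨_, rfl⟩
  have hp'σ : σ p' = B * p' := by
    rw [hp', map_mul, map_add, map_mul, hσ, hσH, hσB]
    linear_combination (-(H * σ p)) * hBB
  have hq'σ : σ q' = A * q' := by
    rw [hq', map_mul, map_add, map_mul, hσ, hσH, hσA]
    linear_combination (-(H * σ q)) * hAA
  have hp'm : p' ∈ mS ^ (k + 1) := by
    rw [hp']; exact Ideal.mul_mem_left _ _ (add_mem hp (Ideal.mul_mem_left _ _ (map_mem_pow σ hp)))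
  have hq'm : q' ∈ mS ^ (k + 1) := by
    rw [hq']; exact Ideal.mul_mem_left _ _ (add_mem hq (Ideal.mul_mem_left _ _ (map_mem_pow σ hq)))
  obtain ⟨r', hr'⟩ : ∃ r', r' = h * (1 + a * b) * r := ⟨_, rfl⟩
  have hr'm : r' ∈ maximalIdeal R ^ (k + 1) := hr' ▸ Ideal.mul_mem_left _ _ hr
  obtain ⟨D, hD'⟩ : ∃ D, D = s.x * s.y - algebraMap R S s.α - algebraMap R S r - p * u - q * v := ⟨_, rfl⟩
  have hDm : s.x * s.y - algebraMap R S s.α - algebraMap R S r' - p' * u - q' * v ∈ mS ^ (k + 1 + 1) := by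
    have h2 : H * (D + A * B * σ D) ∈ mS ^ (k + 1 + 1) :=
      Ideal.mul_mem_left _ _ (add_mem (hD' ▸ hD) (Ideal.mul_mem_left _ _ (map_mem_pow σ (hD' ▸ hD))))
    convert h2 using 1
    rw [hr', hD', hp', hq']
    simp only [map_sub, map_mul, map_add, map_one, AlgEquiv.commutes, hsx, hsy, hσu, hσv, ← hA, ← hB, ← hH]
    linear_combination (-(s.x * s.y - algebraMap R S s.α)) * hHH + H * hαS
      + (-(H * s.x * s.y) * (B * B) + H * σ p * B * u) * hAA
      + (-(H * s.x * s.y) + H * σ q * A * v) * hBB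
  have hle : ∀ {z : S}, z ∈ mS ^ (k + 1) → z ∈ mS := fun hz => Ideal.pow_le_self (Nat.succ_ne_zero k) hz
  refine ⟨⟨s.x - q', s.y - p', s.α + r', ?_, ?_, ?_, ?_⟩, ⟨?_, ?_, ?_⟩, by simpa using hq'm,
    by simpa using hp'm, by simpa using hr'm⟩
  · rw [show s.x - q' - u = s.x - u - q' by ring]; exact sub_mem s.hx (hle hq'm)
  · rw [show s.y - p' - v = s.y - v - p' by ring]; exact sub_mem s.hy (hle hp'm)
  · exact add_mem s.hα (Ideal.pow_le_self (Nat.succ_ne_zero k) hr'm)
  · rw [show (s.x - q') * (s.y - p') - algebraMap R S (s.α + r') =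
        (s.x * s.y - algebraMap R S s.α - algebraMap R S r' - p' * u - q' * v) -
          p' * (s.x - u) - q' * (s.y - v) + p' * q' by rw [map_add]; ring]
    refine add_mem (sub_mem (sub_mem hDm ?_) ?_) ?_
    · rw [pow_succ]; exact Ideal.mul_mem_mul hp'm s.hx
    · rw [pow_succ]; exact Ideal.mul_mem_mul hq'm s.hy
    · rw [pow_succ]; exact Ideal.mul_mem_mul hp'm (hle hq'm)
  · show σ (s.x - q') = algebraMap R S a * (s.x - q')
    rw [map_sub, hsx, hq'σ, ← hA, mul_sub]
  · show σ (s.y - p') = algebraMap R S b * (s.y - p')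
    rw [map_sub, hsy, hp'σ, ← hB, mul_sub]
  · show (a * b - 1) * (s.α + r') = 0
    rw [hr']
    linear_combination hsα + (b * b * h * r) * ha + (h * r) * hb

include hres hgen hσ ha hb hh in
/-- Coordinates which are eigenvectors and whose product comes from the base. -/
theorem exists_eigen_coords [IsAdicComplete (maximalIdeal R) R] [IsAdicComplete (maximalIdeal S) S]
    (hσu : σ u = algebraMap R S a * u) (hσv : σ v = algebraMap R S b * v) (huv : u * v ∈ mS) :
    ∃ (x y : S) (α : R), α ∈ maximalIdeal R ∧ x - u ∈ mS ∧ y - v ∈ mS ∧ x * y = algebraMap R S α ∧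
      σ x = algebraMap R S a * x ∧ σ y = algebraMap R S b * y ∧ (a * b - 1) * α = 0 := by
  choose next h₀ h₁ h₂ h₃ using eigen_step hres u v hgen σ hσ a b h ha hb hh hσu hσv
  let s : (k : ℕ) → {t : Stage (R := R) u v k // IsEigenStage u v σ a b t} := fun k =>
    Nat.rec (motive := fun k => {t : Stage (R := R) u v k // IsEigenStage u v σ a b t})
      ⟨⟨u, v, 0, by simp, by simp, zero_mem _, by simpa using huv⟩, hσu, hσv, mul_zero _⟩
      (fun k t => ⟨next k t.1 t.2, h₀ k t.1 t.2⟩) k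
  have hle : ∀ k, mS ^ k ≤ maximalIdeal S ^ k := fun k => Ideal.pow_right_mono (map_le u v hgen) k
  obtain ⟨x, hx⟩ := exists_limit (maximalIdeal S) (fun k => (s k).1.x)
    (fun k => Ideal.pow_le_pow_right (Nat.le_succ k) (hle _ (h₁ k (s k).1 (s k).2)))
  obtain ⟨y, hy⟩ := exists_limit (maximalIdeal S) (fun k => (s k).1.y)
    (fun k => Ideal.pow_le_pow_right (Nat.le_succ k) (hle _ (h₂ k (s k).1 (s k).2)))
  obtain ⟨α, hα⟩ := exists_limit (maximalIdeal R) (fun k => (s k).1.α)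
    (fun k => Ideal.pow_le_pow_right (Nat.le_succ k) (h₃ k (s k).1 (s k).2))
  have heig : ∀ (c : R) (z : S) (zk : ℕ → S), (∀ k, z - zk k ∈ maximalIdeal S ^ k) →
      (∀ k, σ (zk k) = algebraMap R S c * zk k) → σ z = algebraMap R S c * z := by
    intro c z zk hz hzk
    rw [← sub_eq_zero]
    refine IsHausdorff.haus (I := maximalIdeal S) inferInstance _ fun k => ?_
    rw [SModEq.zero, smul_eq_mul, Ideal.mul_top,
      show σ z - algebraMap R S c * z = σ (z - zk k) - algebraMap R S c * (z - zk k) by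
        rw [map_sub, hzk]; ring]
    exact sub_mem (map_mem_maximalIdeal_pow σ (hz k)) (Ideal.mul_mem_left _ _ (hz k))
  refine ⟨x, y, α, ?_, mem_of_forall_mem_sup_pow _ fun k => ?_, mem_of_forall_mem_sup_pow _ fun k => ?_, ?_,
    heig a x _ hx fun k => (s k).2.1, heig b y _ hy fun k => (s k).2.2.1, ?_⟩
  · have h1 : α - (s 1).1.α ∈ maximalIdeal R ^ 1 := hα 1
    rw [pow_one] at h1
    rw [show α = α - (s 1).1.α + (s 1).1.α by ring]
    exact add_mem h1 (s 1).1.hα
  · rw [show x - u = ((s k).1.x - u) + (x - (s k).1.x) by ring]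
    exact Submodule.add_mem_sup (s k).1.hx (hx k)
  · rw [show y - v = ((s k).1.y - v) + (y - (s k).1.y) by ring]
    exact Submodule.add_mem_sup (s k).1.hy (hy k)
  · rw [← sub_eq_zero]
    refine IsHausdorff.haus (I := maximalIdeal S) inferInstance _ fun k => ?_
    rw [SModEq.zero, smul_eq_mul, Ideal.mul_top]
    have hα' : algebraMap R S (α - (s k).1.α) ∈ maximalIdeal S ^ k := by
      refine hle k ?_
      rw [← Ideal.map_pow]; exact Ideal.mem_map_of_mem _ (hα k)
    have : x * y - algebraMap R S α = ((s k).1.x * (s k).1.y - algebraMap R S (s k).1.α) +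
        (x - (s k).1.x) * y + (s k).1.x * (y - (s k).1.y) - algebraMap R S (α - (s k).1.α) := by
      rw [map_sub]; ring
    rw [this]
    exact sub_mem (add_mem (add_mem (Ideal.pow_le_pow_right (Nat.le_succ k) (hle _ (s k).1.hp))
      (Ideal.mul_mem_right _ _ (hx k))) (Ideal.mul_mem_left _ _ (hy k))) hα'
  · refine IsHausdorff.haus (I := maximalIdeal R) inferInstance _ fun k => ?_
    rw [SModEq.zero, smul_eq_mul, Ideal.mul_top,
      show (a * b - 1) * α = (a * b - 1) * (α - (s k).1.α) by linear_combination (s k).2.2.2]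
    exact Ideal.mul_mem_left _ _ (hα k)

end Groth.Agent.H06Node
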