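import Groth.Agent.H06Node.Series
import Groth.Agent.H06Node.Eigen
import Groth.Agent.H02CA.Node.Flat
import Mathlib.FieldTheory.IsAlgClosed.Basic

/-!
# A flat deformation of the node with an involution fixing the branches
-/

set_option autoImplicit false
set_option linter.unusedSectionVars false
set_option linter.style.haveILetI false

universe u

open IsLocalRing MvPowerSeries

namespace Groth.Agent.H06Node

variable {k R S : Type u} [Field k] [CommRing R] [IsLocalRing R] [IsNoetherianRing R]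
  [CommRing S] [IsLocalRing S] [IsNoetherianRing S] [Algebra k R] [Algebra R S] [Algebra k S]
  [IsScalarTower k R S] [IsLocalHom (algebraMap R S)]

local notation "mS" => Ideal.map (algebraMap R S) (maximalIdeal R)

/-- Sign of the involution on a branch. -/
theorem exists_sign (h2 : (2 : k) ≠ 0) (σ : S ≃ₐ[R] S) (hσ : ∀ s, σ (σ s) = s)
    (res : S →+* k) (hresk : ∀ c : k, res (algebraMap k S c) = c) (hker : RingHom.ker res = maximalIdeal S)
    (u : S) (hu : u ∉ mS) (P : Ideal S) (hP : P = Ideal.span {u} ⊔ mS) (hσP : σ u ∈ P) :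
    ∃ (ξ : k) (u' w : S), ξ ^ 2 = 1 ∧ IsUnit w ∧ u' - w * u ∈ mS ∧
      σ u' = algebraMap R S (algebraMap k R ξ) * u' := by
  rw [hP] at hσP
  obtain ⟨z, hz, m, hm, e⟩ := Submodule.mem_sup.1 hσP
  obtain ⟨a, rfl⟩ := Ideal.mem_span_singleton'.1 hz
  have hσm : σ m ∈ mS := by
    have := map_mem_pow σ (n := 1) (by simpa using hm : m ∈ mS ^ 1)
    simpa using this
  have hnu : ¬ IsUnit (σ a * a - 1) := by
    intro hunit
    refine hu ((Ideal.unit_mul_mem_iff_mem _ hunit).1 ?_)
    have h1 : σ (σ u) = σ a * (a * u + m) + σ m := by rw [← e, map_add, map_mul, ← e]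
    rw [hσ] at h1
    rw [show (σ a * a - 1) * u = -(σ a * m + σ m) by linear_combination -h1]
    exact neg_mem (add_mem (Ideal.mul_mem_left _ _ hm) hσm)
  have hresσ : res (σ a) = res a := by
    have h1 : a - algebraMap k S (res a) ∈ maximalIdeal S := by
      rw [← hker, RingHom.mem_ker, map_sub, hresk, sub_self]
    have h2 := map_mem_maximalIdeal σ h1
    rw [map_sub, IsScalarTower.algebraMap_apply k R S, σ.commutes, ← IsScalarTower.algebraMap_apply,
      ← hker, RingHom.mem_ker, map_sub, hresk, sub_eq_zero] at h2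
    exact h2
  obtain ⟨ξ, hξ⟩ : ∃ ξ, ξ = res a := ⟨_, rfl⟩
  have hξ2 : ξ ^ 2 = 1 := by
    have h1 : σ a * a - 1 ∈ RingHom.ker res := hker ▸ hnu
    rw [RingHom.mem_ker, map_sub, map_mul, map_one, hresσ, ← hξ, sub_eq_zero] at h1
    rw [sq]; exact h1
  obtain ⟨H, hH⟩ : ∃ H, H = algebraMap k S 2⁻¹ := ⟨_, rfl⟩
  obtain ⟨C, hC⟩ : ∃ C, C = algebraMap k S ξ := ⟨_, rfl⟩
  have hCC : C * C = 1 := by rw [hC, ← map_mul, ← sq, hξ2, map_one]
  have hσk : ∀ c : k, σ (algebraMap k S c) = algebraMap k S c := fun c => by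
    rw [IsScalarTower.algebraMap_apply k R S, σ.commutes]
  refine ⟨ξ, H * (u + C * σ u), H * (1 + C * a), hξ2, ?_, ?_, ?_⟩
  · by_contra hn
    have h1 : H * (1 + C * a) ∈ RingHom.ker res := hker ▸ hn
    rw [RingHom.mem_ker, map_mul, map_add, map_one, map_mul, hH, hC, hresk, hresk, ← hξ, ← sq, hξ2] at h1
    exact mul_ne_zero (inv_ne_zero h2) (by rwa [one_add_one_eq_two]) h1
  · rw [← e, show H * (u + C * (a * u + m)) - H * (1 + C * a) * u = (H * C) * m by ring]
    exact Ideal.mul_mem_left _ _ hm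
  · rw [← IsScalarTower.algebraMap_apply k R S, ← hC, map_mul, map_add, map_mul, hσ,
      show σ H = H by rw [hH, hσk], show σ C = C by rw [hC, hσk]]
    linear_combination (-(H * σ u)) * hCC

set_option maxHeartbeats 1000000 in
theorem main (h2 : (2 : k) ≠ 0) [IsAdicComplete (maximalIdeal R) R] [IsAdicComplete (maximalIdeal S) S]
    [Module.Flat R S]
    (e : (S ⧸ mS) ≃ₐ[k] (MvPowerSeries (Fin 2) k ⧸
        Ideal.span {(X 1 ^ 2 - X 0 ^ 2 : MvPowerSeries (Fin 2) k)}))
    (σ : S ≃ₐ[R] S) (hσ : ∀ s, σ (σ s) = s)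
    (hbr : ∀ P ∈ (mS).minimalPrimes, Ideal.map (σ : S →+* S) P = P) :
    ∃ (t : R) (ξ₁ ξ₂ : k), ξ₁ ^ 2 = 1 ∧ ξ₂ ^ 2 = 1 ∧ (ξ₁ = -ξ₂ → t = 0) ∧
      ∃ f : S ≃ₐ[R] (MvPowerSeries (Fin 2) R ⧸
          Ideal.span {(X 0 * X 1 - C t : MvPowerSeries (Fin 2) R)}),
        f (σ (f.symm (Ideal.Quotient.mk _ (X 0)))) = algebraMap k R ξ₂ • Ideal.Quotient.mk _ (X 0) ∧
        f (σ (f.symm (Ideal.Quotient.mk _ (X 1)))) = algebraMap k R ξ₁ • Ideal.Quotient.mk _ (X 1) := by
  obtain ⟨ν⟩ := exists_algEquiv_node k h2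
  obtain ⟨e', he'⟩ : ∃ e' : (S ⧸ mS) ≃ₐ[k] Node k, e' = e.trans ν := ⟨_, rfl⟩
  let κ : S →+* Node k := e'.toAlgHom.toRingHom.comp (Ideal.Quotient.mk mS)
  have hκ : Function.Surjective κ := e'.surjective.comp Ideal.Quotient.mk_surjective
  have hκker : ∀ s, κ s = 0 ↔ s ∈ mS := fun s =>
    (map_eq_zero_iff e' e'.injective).trans Ideal.Quotient.eq_zero_iff_mem
  have hκk : ∀ c : k, κ (algebraMap k S c) = algebraMap k (Node k) c := fun c => e'.commutes c
  let cc : Node k →+* k := Ideal.Quotient.lift _ constantCoeff fun z hz => by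
    obtain ⟨c, rfl⟩ := Ideal.mem_span_singleton'.1 hz
    simp
  let res : S →+* k := cc.comp κ
  have hresk : ∀ c : k, res (algebraMap k S c) = c := fun c => by
    show cc (κ _) = c
    rw [hκk]
    show constantCoeff (algebraMap k (MvPowerSeries (Fin 2) k) c) = c
    simp [MvPowerSeries.algebraMap_apply]
  have hressurj : Function.Surjective res := fun c => ⟨_, hresk c⟩
  have hker : RingHom.ker res = maximalIdeal S :=
    IsLocalRing.eq_maximalIdeal (RingHom.ker_isMaximal_of_surjective res hressurj)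
  obtain ⟨u, hu⟩ := hκ (Ideal.Quotient.mk _ (X 0))
  obtain ⟨v, hv⟩ := hκ (Ideal.Quotient.mk _ (X 1))
  have huv : u * v ∈ mS := by
    rw [← hκker, map_mul, hu, hv, ← map_mul, Ideal.Quotient.eq_zero_iff_mem]
    exact Ideal.mem_span_singleton_self _
  have hum : u ∈ maximalIdeal S := by
    rw [← hker, RingHom.mem_ker]
    show cc (κ u) = 0
    rw [hu]
    exact constantCoeff_X _
  have hvm : v ∈ maximalIdeal S := by
    rw [← hker, RingHom.mem_ker]
    show cc (κ v) = 0
    rw [hv]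
    exact constantCoeff_X _
  have hmS : mS ≤ maximalIdeal S := fun s hs => by
    rw [← hker, RingHom.mem_ker]
    show cc (κ s) = 0
    rw [(hκker s).2 hs, map_zero]
  have hgen : maximalIdeal S = Ideal.span {u, v} ⊔ mS := by
    refine le_antisymm (fun s hs => ?_) (sup_le ?_ hmS)
    · rw [← hker, RingHom.mem_ker] at hs
      obtain ⟨f, hf⟩ := Ideal.Quotient.mk_surjective (κ s)
      have hf0 : constantCoeff f = 0 := by
        have : cc (κ s) = 0 := hs
        rw [← hf] at this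
        exact this
      have hf1 : f ∈ Ideal.span (Set.range fun i : Fin 2 => (X i : MvPowerSeries (Fin 2) k)) :=
        H02CA.PS.mem_vars_iff.2 hf0
      obtain ⟨c, hc⟩ := Ideal.mem_span_range_iff_exists_fun.1 hf1
      obtain ⟨c₀, hc₀⟩ := hκ (Ideal.Quotient.mk _ (c 0))
      obtain ⟨c₁, hc₁⟩ := hκ (Ideal.Quotient.mk _ (c 1))
      rw [show s = (c₀ * u + c₁ * v) + (s - (c₀ * u + c₁ * v)) by ring]
      refine Submodule.add_mem_sup (Ideal.mem_span_pair.2 ⟨c₀, c₁, rfl⟩) ((hκker _).1 ?_)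
      rw [map_sub, map_add, map_mul, map_mul, hc₀, hc₁, hu, hv, ← hf, ← hc, Fin.sum_univ_two, map_add,
        map_mul, map_mul, sub_self]
    · rw [Ideal.span_le]
      rintro z (rfl | rfl) <;> assumption
  have branch : ∀ (i j : Fin 2) (a b : S), i ≠ j → κ a = Ideal.Quotient.mk _ (X i) →
      κ b = Ideal.Quotient.mk _ (X j) → σ a ∈ Ideal.span {a} ⊔ mS := by
    intro i j a b hij ha hb
    have hP : (Ideal.span {(Ideal.Quotient.mk _ (X i) : Node k)}).comap κ = Ideal.span {a} ⊔ mS := by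
      refine le_antisymm (fun s hs => ?_) (sup_le ?_ fun s hs => ?_)
      · obtain ⟨c, hc⟩ := Ideal.mem_span_singleton'.1 (Ideal.mem_comap.1 hs)
        obtain ⟨c, rfl⟩ := hκ c
        rw [show s = c * a + (s - c * a) by ring]
        refine Submodule.add_mem_sup (Ideal.mul_mem_left _ _ (Ideal.mem_span_singleton_self _))
          ((hκker _).1 ?_)
        rw [map_sub, map_mul, ha, hc, sub_self]
      · rw [Ideal.span_singleton_le_iff_mem, Ideal.mem_comap, ha]
        exact Ideal.mem_span_singleton_self _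
      · rw [Ideal.mem_comap, (hκker s).2 hs]
        exact zero_mem _
    have hmin : Ideal.span {a} ⊔ mS ∈ (mS).minimalPrimes := by
      refine ⟨⟨hP ▸ (isPrime_branch (k := k) i).comap κ, le_sup_right⟩, ?_⟩
      rintro Q ⟨hQ, hQm⟩ hQle
      refine sup_le ?_ hQm
      rw [Ideal.span_singleton_le_iff_mem]
      have hab : a * b ∈ Q := hQm ((hκker _).1 (by
        rw [map_mul, ha, hb, ← map_mul, Ideal.Quotient.eq_zero_iff_mem]
        exact mul_X_mem i j hij))
      refine (hQ.mem_or_mem hab).resolve_right fun hbQ => not_mem_branch (k := k) hij ?_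
      have := hQle hbQ
      rw [← hP, Ideal.mem_comap, hb] at this
      exact this
    have := hbr _ hmin
    rw [← this]
    exact Ideal.mem_map_of_mem (σ : S →+* S) (Submodule.mem_sup_left (Ideal.mem_span_singleton_self a))
  have hune : ∀ (i : Fin 2) (a : S), κ a = Ideal.Quotient.mk _ (X i) → a ∉ mS := fun i a ha h =>
    mk_X_ne_zero i (ha.symm.trans ((hκker a).2 h))
  obtain ⟨ξu, u', wu, hξu, hwu, hu'm, hσu⟩ := exists_sign h2 σ hσ res hresk hker u (hune 0 u hu) _ rfl
    (branch 0 1 u v (by decide) hu hv)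
  obtain ⟨ξv, v', wv, hξv, hwv, hv'm, hσv⟩ := exists_sign h2 σ hσ res hresk hker v (hune 1 v hv) _ rfl
    (branch 1 0 v u (by decide) hv hu)
  have huv' : u' * v' ∈ mS := by
    rw [show u' * v' = (u' - wu * u) * v' + wu * u * (v' - wv * v) + (wu * wv) * (u * v) by ring]
    exact add_mem (add_mem (Ideal.mul_mem_right _ _ hu'm) (Ideal.mul_mem_left _ _ hv'm))
      (Ideal.mul_mem_left _ _ huv)
  have hgen' : maximalIdeal S = Ideal.span {u', v'} ⊔ mS := by
    refine hgen.trans (le_antisymm (sup_le ?_ le_sup_right) (sup_le ?_ le_sup_right)) <;> rw [Ideal.span_le] <;>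
      rintro z (rfl | rfl)
    · refine (Ideal.unit_mul_mem_iff_mem _ hwu).1 ?_
      rw [show wu * z = u' + -(u' - wu * z) by ring]
      exact Submodule.add_mem_sup (Ideal.subset_span (by simp)) (neg_mem hu'm)
    · refine (Ideal.unit_mul_mem_iff_mem _ hwv).1 ?_
      rw [show wv * z = v' + -(v' - wv * z) by ring]
      exact Submodule.add_mem_sup (Ideal.subset_span (by simp)) (neg_mem hv'm)
    · rw [show z = wu * u + (z - wu * u) by ring]
      exact Submodule.add_mem_sup (Ideal.mul_mem_left _ _ (Ideal.subset_span (by simp))) hu'm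
    · rw [show z = wv * v + (z - wv * v) by ring]
      exact Submodule.add_mem_sup (Ideal.mul_mem_left _ _ (Ideal.subset_span (by simp))) hv'm
  have hu'' : u' ∈ maximalIdeal S := hgen' ▸ Submodule.mem_sup_left (Ideal.subset_span (by simp))
  have hv'' : v' ∈ maximalIdeal S := hgen' ▸ Submodule.mem_sup_left (Ideal.subset_span (by simp))
  have hres' : ∀ s : S, ∃ r : R, algebraMap R S r - s ∈ maximalIdeal S := fun s => by
    refine ⟨algebraMap k R (res s), ?_⟩
    rw [← IsScalarTower.algebraMap_apply, ← hker, RingHom.mem_ker, map_sub, hresk, sub_self]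
  have hsq : ∀ {ξ : k}, ξ ^ 2 = 1 → algebraMap k R ξ * algebraMap k R ξ = 1 := fun {ξ} hξ => by
    rw [← map_mul, ← sq, hξ, map_one]
  have hh : algebraMap k R 2⁻¹ * 2 = 1 := by
    rw [← map_ofNat (algebraMap k R) 2, ← map_mul, inv_mul_cancel₀ h2, map_one]
  obtain ⟨x, y, α, hα, hxu, hyv, hxy, hσx, hσy, hcα⟩ := exists_eigen_coords hres' u' v' hgen' σ hσ
    (algebraMap k R ξu) (algebraMap k R ξv) _ (hsq hξu) (hsq hξv) hh hσu hσv huv'
  obtain ⟨ψ, hψ, hψx, hψy⟩ := H02CA.Node.exists_surjective hres' u' v' hgen' x y hxu hyv hu'' hv''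
  have hψC : ψ (C α) = algebraMap R S α := by rw [MvPowerSeries.c_eq_algebraMap, AlgHom.commutes]
  have hψ0 : ψ (X 0 * X 1 - C α) = 0 := by rw [map_sub, map_mul, hψx, hψy, hψC, hxy, sub_self]
  let ρ : R →+* k := res.comp (algebraMap R S)
  have hρ : Function.Surjective ρ := fun c => ⟨algebraMap k R c, by
    show res (algebraMap R S (algebraMap k R c)) = c
    rw [← IsScalarTower.algebraMap_apply, hresk]⟩
  have hρker : RingHom.ker ρ = maximalIdeal R :=
    IsLocalRing.eq_maximalIdeal (RingHom.ker_isMaximal_of_surjective ρ hρ)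
  have hk := H02CA.Node.ker_le ρ hρ hρker ψ hψ hα hψ0 e'.toRingEquiv
  let φ := Ideal.Quotient.liftₐ (Ideal.span {(X 0 * X 1 - C α : MvPowerSeries (Fin 2) R)}) ψ fun z hz => by
    obtain ⟨c, rfl⟩ := Ideal.mem_span_singleton'.1 hz
    rw [map_mul, hψ0, mul_zero]
  let Φ := AlgEquiv.ofBijective φ ⟨(injective_iff_map_eq_zero _).2 fun z hz => by
    obtain ⟨f, rfl⟩ := Ideal.Quotient.mk_surjective z
    exact Ideal.Quotient.eq_zero_iff_mem.2 (hk hz), fun b => by
    obtain ⟨f, rfl⟩ := hψ b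
    exact ⟨Ideal.Quotient.mk _ f, rfl⟩⟩
  have hconj : ∀ (i : Fin 2) (ξ : k) (z : S), ψ (X i) = z →
      σ z = algebraMap R S (algebraMap k R ξ) * z →
      Φ.symm (σ (Φ.symm.symm (Ideal.Quotient.mk _ (X i)))) = algebraMap k R ξ • Ideal.Quotient.mk _ (X i) := by
    intro i ξ z hz hσz
    rw [AlgEquiv.symm_apply_eq, map_smul]
    show σ (ψ (X i)) = algebraMap k R ξ • ψ (X i)
    rw [hz, hσz, Algebra.smul_def]
  refine ⟨α, ξv, ξu, hξv, hξu, fun hneg => ?_, Φ.symm, hconj 0 ξu x hψx hσx, hconj 1 ξv y hψy hσy⟩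
  rw [hneg, map_neg, mul_neg, hsq hξu, show (-1 - 1 : R) = -2 by norm_num, neg_mul, neg_eq_zero] at hcα
  calc α = algebraMap k R 2⁻¹ * 2 * α := by rw [hh, one_mul]
    _ = 0 := by rw [mul_assoc, hcα, mul_zero]

end Groth.Agent.H06Node
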