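import Groth.Agent.H02CA.PowerSeries
import Mathlib.RingTheory.MvPowerSeries.Equiv
import Mathlib.RingTheory.PowerSeries.NoZeroDivisors
import Mathlib.RingTheory.MvPowerSeries.NoZeroDivisors
import Mathlib.LinearAlgebra.Matrix.Determinant.Basic

/-!
# The two branches of `k[[x, y]]/(x y)`
-/

set_option autoImplicit false
universe u

namespace Groth.Agent.H06Node

open MvPowerSeries

variable {k : Type u} [Field k]

lemma prime_X_zero : Prime (X 0 : MvPowerSeries (Fin 2) k) := by
  rw [← MulEquiv.prime_iff (MvPowerSeries.finSuccEquiv k 1).toMulEquiv]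
  show Prime ((MvPowerSeries.finSuccEquiv k 1) (X 0))
  rw [finSuccEquiv_X_zero]
  have : IsDomain (MvPowerSeries (Fin 1) k) := NoZeroDivisors.to_isDomain _
  exact PowerSeries.X_prime

lemma prime_X (i : Fin 2) : Prime (X i : MvPowerSeries (Fin 2) k) := by
  rw [← MulEquiv.prime_iff (renameEquiv k (Equiv.swap i 0)).toMulEquiv]
  show Prime ((renameEquiv k (Equiv.swap i 0)) (X i))
  simpa using prime_X_zero (k := k)

lemma not_dvd_X {i j : Fin 2} (h : i ≠ j) : ¬ (X i : MvPowerSeries (Fin 2) k) ∣ X j := by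
  classical
  rw [X_dvd_iff]
  intro hd
  have := hd (Finsupp.single j 1) (Finsupp.single_eq_of_ne h)
  simp at this

variable (k) in
/-- the node `k[[x, y]]/(x y)` -/
abbrev Node : Type u :=
  MvPowerSeries (Fin 2) k ⧸ Ideal.span {(X 0 * X 1 : MvPowerSeries (Fin 2) k)}

lemma mul_X_mem (i j : Fin 2) (h : i ≠ j) :
    (X i * X j : MvPowerSeries (Fin 2) k) ∈ Ideal.span {(X 0 * X 1 : MvPowerSeries (Fin 2) k)} := by
  fin_cases i <;> fin_cases j <;> simp at h ⊢ <;>
    first
      | exact Ideal.mem_span_singleton_self _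
      | (rw [mul_comm]; exact Ideal.mem_span_singleton_self _)

lemma mk_X_ne_zero (i : Fin 2) : (Ideal.Quotient.mk _ (X i) : Node k) ≠ 0 := by
  intro h
  rw [Ideal.Quotient.eq_zero_iff_mem, Ideal.mem_span_singleton] at h
  fin_cases i
  · exact not_dvd_X (k := k) (i := 1) (j := 0) (by decide) ((dvd_mul_left _ _).trans h)
  · exact not_dvd_X (k := k) (i := 0) (j := 1) (by decide) ((dvd_mul_right _ _).trans h)

lemma isPrime_branch (i : Fin 2) : (Ideal.span {(Ideal.Quotient.mk _ (X i) : Node k)}).IsPrime := by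
  have : (Ideal.span {(X i : MvPowerSeries (Fin 2) k)}).IsPrime :=
    (Ideal.span_singleton_prime (prime_X i).ne_zero).mpr (prime_X i)
  rw [show Ideal.span {(Ideal.Quotient.mk _ (X i) : Node k)} =
    (Ideal.span {(X i : MvPowerSeries (Fin 2) k)}).map (Ideal.Quotient.mk _) by
    rw [Ideal.map_span, Set.image_singleton]]
  refine Ideal.map_isPrime_of_surjective Ideal.Quotient.mk_surjective ?_
  rw [Ideal.mk_ker, Ideal.span_singleton_le_iff_mem, Ideal.mem_span_singleton]
  fin_cases i
  · exact dvd_mul_right _ _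
  · exact dvd_mul_left _ _

lemma not_mem_branch {i j : Fin 2} (h : i ≠ j) :
    (Ideal.Quotient.mk _ (X j) : Node k) ∉ Ideal.span {(Ideal.Quotient.mk _ (X i) : Node k)} := by
  intro hm
  obtain ⟨c, hc⟩ := Ideal.mem_span_singleton'.1 hm
  obtain ⟨c, rfl⟩ := Ideal.Quotient.mk_surjective c
  rw [← map_mul, Ideal.Quotient.eq, Ideal.mem_span_singleton] at hc
  refine not_dvd_X (k := k) h ?_
  have h1 : (X i : MvPowerSeries (Fin 2) k) ∣ X 0 * X 1 := by
    fin_cases i
    · exact dvd_mul_right _ _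
    · exact dvd_mul_left _ _
  have h2 := dvd_sub (dvd_mul_left (X i) c) (h1.trans hc)
  rwa [sub_sub_cancel] at h2

variable (k) in
/-- `k[[x, y]]/(y² - x²)` is the node. -/
theorem exists_algEquiv_node (h2 : (2 : k) ≠ 0) :
    Nonempty ((MvPowerSeries (Fin 2) k ⧸ Ideal.span {(X 1 ^ 2 - X 0 ^ 2 : MvPowerSeries (Fin 2) k)}) ≃ₐ[k]
      Node k) := by
  classical
  let b : Fin 2 → MvPowerSeries (Fin 2) k := ![X 1 - X 0, X 1 + X 0]
  have hb : ∀ i, constantCoeff (b i) = 0 := fun i => by fin_cases i <;> simp [b]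
  have ha := hasSubst_of_constantCoeff_zero hb
  let φ : MvPowerSeries (Fin 2) k →ₐ[k] MvPowerSeries (Fin 2) k := substAlgHom ha
  have hφ : ∀ i, φ (X i) = b i := fun i => substAlgHom_X ha i
  have hbij : Function.Bijective φ := by
    refine H02CA.PS.bijective_of_isUnit_det (fun i => by rw [hφ]; exact hb i) (Ne.isUnit ?_)
    have : (-(2 : k)) ≠ 0 := neg_ne_zero.mpr h2
    convert this using 1
    rw [Matrix.det_fin_two]
    simp only [Matrix.of_apply, hφ, b, Matrix.cons_val_zero, Matrix.cons_val_one, map_sub, map_add,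
      coeff_index_single_X]
    norm_num
  refine ⟨(Ideal.quotientEquivAlg _ _ (AlgEquiv.ofBijective φ hbij) ?_).symm⟩
  rw [Ideal.map_span, Set.image_singleton]
  congr 2
  show _ = φ (X 0 * X 1)
  rw [map_mul, hφ, hφ]
  simp [b]
  ring

end Groth.Agent.H06Node
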